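import Mathlib.Algebra.Homology.TotalComplex
import Mathlib.Algebra.Homology.Refinements
import Mathlib.Algebra.Homology.QuasiIso
import Mathlib.Algebra.Homology.HomologicalComplexAbelian
import Mathlib.Algebra.Homology.HomologicalComplexLimits
import Mathlib.CategoryTheory.Abelian.Basic
import Mathlib.Data.Int.Interval

/-!
# Total complexes preserve quasi-isomorphisms of bounded below double complexes
-/

universe v u

open CategoryTheory CategoryTheory.Limits

namespace Groth.Agent.Lib.TotalQIso.Basic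

variable {A : Type u} [Category.{v} A] [Abelian A]

section Chase

variable {K L : CochainComplex A ℤ} (f : K ⟶ L)

/-- Chase along a quasi-isomorphism: cycles of the mapping cone are boundaries. -/
lemma exists_chase [QuasiIso f] {i j k : ℤ} (hij : i + 1 = j) (hjk : j + 1 = k) {T : A}
    (x : T ⟶ K.X k) (y : T ⟶ L.X j) (hx : ∀ l, x ≫ K.d k l = 0)
    (hxy : x ≫ f.f k + y ≫ L.d j k = 0) :
    ∃ (T' : A) (π : T' ⟶ T) (_ : Epi π) (z : T' ⟶ K.X j) (w : T' ⟶ L.X i),
      π ≫ x = -(z ≫ K.d j k) ∧ π ≫ y = z ≫ f.f j + w ≫ L.d i j := by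
  have hk : Mono (HomologicalComplex.homologyMap f k) := inferInstance
  rw [HomologicalComplex.mono_homologyMap_iff_up_to_refinements f j k (k + 1) (by simp; omega)
    (by simp)] at hk
  obtain ⟨T₁, π₁, _, z₀, hz₀⟩ := hk x (hx _) (-y) (by
    rw [Preadditive.neg_comp]; exact eq_neg_of_add_eq_zero_left hxy)
  have hj : Epi (HomologicalComplex.homologyMap f j) := inferInstance
  rw [HomologicalComplex.epi_homologyMap_iff_up_to_refinements f i j k (by simp; omega)
    (by simp; omega)] at hj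
  obtain ⟨T₂, π₂, _, c, hc, w, hw⟩ := hj (π₁ ≫ y + z₀ ≫ f.f j) (by
    rw [Preadditive.add_comp, Category.assoc, Category.assoc, f.comm, ← Category.assoc z₀, ← hz₀,
      Category.assoc, ← Preadditive.comp_add, add_comm, hxy, comp_zero])
  refine ⟨T₂, π₂ ≫ π₁, epi_comp _ _, c - π₂ ≫ z₀, w, ?_, ?_⟩
  · rw [Preadditive.sub_comp, hc, zero_sub, neg_neg, Category.assoc, Category.assoc, hz₀]
  · rw [Preadditive.sub_comp, Category.assoc, Category.assoc]
    rw [Preadditive.comp_add] at hw
    rw [eq_sub_of_add_eq hw]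
    abel

/-- Converse: if cycles of the mapping cone are boundaries, the map is a quasi-isomorphism. -/
lemma quasiIso_of_chase
    (h : ∀ (i j k : ℤ), i + 1 = j → j + 1 = k → ∀ {T : A} (x : T ⟶ K.X k) (y : T ⟶ L.X j),
      (∀ l, x ≫ K.d k l = 0) → x ≫ f.f k + y ≫ L.d j k = 0 →
      ∃ (T' : A) (π : T' ⟶ T) (_ : Epi π) (z : T' ⟶ K.X j) (w : T' ⟶ L.X i),
        π ≫ x = -(z ≫ K.d j k) ∧ π ≫ y = z ≫ f.f j + w ≫ L.d i j) :
    QuasiIso f := by
  refine ⟨fun n => ?_⟩
  rw [quasiIsoAt_iff_isIso_homologyMap]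
  have hm : Mono (HomologicalComplex.homologyMap f n) := by
    rw [HomologicalComplex.mono_homologyMap_iff_up_to_refinements f (n - 1) n (n + 1) (by simp)
      (by simp)]
    intro T x hx y hy
    have hx' : ∀ l, x ≫ K.d n l = 0 := fun l => by
      by_cases hl : n + 1 = l
      · subst hl; exact hx
      · rw [K.shape _ _ (by simpa using hl), comp_zero]
    obtain ⟨T', π, hπ, z, w, h₁, -⟩ := h (n - 1 - 1) (n - 1) n (by omega) (by omega) x (-y) hx'
      (by rw [hy, Preadditive.neg_comp, add_neg_cancel])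
    exact ⟨T', π, hπ, -z, by rw [h₁, Preadditive.neg_comp]⟩
  have he : Epi (HomologicalComplex.homologyMap f n) := by
    rw [HomologicalComplex.epi_homologyMap_iff_up_to_refinements f (n - 1) n (n + 1) (by simp)
      (by simp)]
    intro T y hy
    obtain ⟨T', π, hπ, z, w, h₁, h₂⟩ := h (n - 1) n (n + 1) (by omega) rfl
      (0 : T ⟶ K.X (n + 1)) y (fun _ => zero_comp) (by rw [zero_comp, zero_add, hy])
    rw [comp_zero, eq_comm, neg_eq_zero] at h₁
    exact ⟨T', π, hπ, z, h₁, w, h₂⟩
  exact isIso_of_mono_of_epi _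

end Chase

section Total

variable (K : HomologicalComplex₂ A (ComplexShape.up ℤ) (ComplexShape.up ℤ))
  [K.HasTotal (ComplexShape.up ℤ)]

/-- The projection to the summand with second index `q`. -/
noncomputable def proj (n q : ℤ) : (K.total (ComplexShape.up ℤ)).X n ⟶ (K.X (n - q)).X q :=
  K.totalDesc fun i₁ i₂ h =>
    if hq : i₂ = q then (K.XXIsoOfEq _ _ _ (by simp at h; omega) hq).hom else 0

lemma ι_proj_self (n q : ℤ) (h : (n - q) + q = n) :
    K.ιTotal (ComplexShape.up ℤ) (n - q) q n h ≫ proj K n q = 𝟙 _ := by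
  rw [proj, HomologicalComplex₂.ι_totalDesc, dif_pos rfl, HomologicalComplex₂.XXIsoOfEq_rfl,
    Iso.refl_hom]

lemma ι_proj_ne {n p q' q : ℤ} (h : p + q' = n) (hq : q' ≠ q) :
    K.ιTotal (ComplexShape.up ℤ) p q' n h ≫ proj K n q = 0 := by
  rw [proj, HomologicalComplex₂.ι_totalDesc, dif_neg hq]

lemma d_comp_proj {p p' n q : ℤ} (h : p' + q = n) :
    (K.d p p').f q ≫ K.ιTotal (ComplexShape.up ℤ) p' q n h ≫ proj K n q =
      (K.d p (n - q)).f q := by
  obtain rfl : p' = n - q := by omega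
  rw [ι_proj_self, Category.comp_id]

lemma d_proj (n n' q : ℤ) (hn : n + 1 = n') :
    ∃ e : (K.X (n - (q - 1))).X (q - 1) ⟶ (K.X (n' - q)).X q,
      (K.total (ComplexShape.up ℤ)).d n n' ≫ proj K n' q =
        proj K n q ≫ (K.d (n - q) (n' - q)).f q + proj K n (q - 1) ≫ e := by
  refine ⟨K.ιTotal (ComplexShape.up ℤ) (n - (q - 1)) (q - 1) n (by simp) ≫
    (K.total (ComplexShape.up ℤ)).d n n' ≫ proj K n' q,
    HomologicalComplex₂.total.hom_ext _ fun p q' h => ?_⟩
  change p + q' = n at h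
  rw [Preadditive.comp_add]
  have hD : K.ιTotal (ComplexShape.up ℤ) p q' n h ≫ (K.total (ComplexShape.up ℤ)).d n n' =
      ((K.d p (p + 1)).f q' ≫ K.ιTotal (ComplexShape.up ℤ) (p + 1) q' n' (by simp; omega)) +
      ComplexShape.ε₂ (ComplexShape.up ℤ) (ComplexShape.up ℤ) (ComplexShape.up ℤ) (p, q') •
        ((K.X p).d q' (q' + 1) ≫
          K.ιTotal (ComplexShape.up ℤ) p (q' + 1) n' (by simp; omega)) := by
    rw [HomologicalComplex₂.total_d, Preadditive.comp_add, HomologicalComplex₂.ι_D₁,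
      HomologicalComplex₂.ι_D₂, K.d₁_eq (ComplexShape.up ℤ) (i₁' := p + 1) (by simp) q' n'
        (by simp; omega),
      K.d₂_eq (ComplexShape.up ℤ) p (i₂' := q' + 1) (by simp) n' (by simp; omega)]
    simp
  by_cases h1 : q' = q
  · subst h1
    obtain rfl : p = n - q' := by omega
    rw [← Category.assoc, hD, Preadditive.add_comp, Linear.units_smul_comp, Category.assoc,
      Category.assoc, ι_proj_ne K _ (by omega : q' + 1 ≠ q'), comp_zero, smul_zero,
      ← Category.assoc _ (proj K n q'), ι_proj_self, Category.id_comp,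
      ← Category.assoc _ (proj K n (q' - 1)), ι_proj_ne K _ (by omega : q' ≠ q' - 1), zero_comp,
      add_zero, add_zero]
    exact d_comp_proj K _
  · rw [← Category.assoc _ (proj K n q), ι_proj_ne K _ h1, zero_comp, zero_add]
    by_cases h2 : q' = q - 1
    · subst h2
      obtain rfl : p = n - (q - 1) := by omega
      rw [← Category.assoc _ (proj K n (q - 1)), ι_proj_self, Category.id_comp]
    · rw [← Category.assoc _ (proj K n (q - 1)), ι_proj_ne K _ h2, zero_comp, ← Category.assoc,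
        hD, Preadditive.add_comp, Linear.units_smul_comp, Category.assoc, Category.assoc,
        ι_proj_ne K _ h1, ι_proj_ne K _ (by omega : q' + 1 ≠ q), comp_zero, comp_zero, smul_zero,
        add_zero]

lemma comp_d_proj {T : A} {n n' q : ℤ} (hn : n + 1 = n')
    (x : T ⟶ (K.total (ComplexShape.up ℤ)).X n) (hx : x ≫ proj K n (q - 1) = 0) :
    x ≫ (K.total (ComplexShape.up ℤ)).d n n' ≫ proj K n' q =
      (x ≫ proj K n q) ≫ (K.d (n - q) (n' - q)).f q := by
  obtain ⟨e, he⟩ := d_proj K n n' q hn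
  rw [he, Preadditive.comp_add, ← Category.assoc x, ← Category.assoc x, hx, zero_comp, add_zero]

variable {a b : ℤ} (hK : ∀ p q : ℤ, p < a ∨ q < b → IsZero ((K.X p).X q))

include hK in
lemma eq_zero_of_proj {T : A} {n : ℤ} (x : T ⟶ (K.total (ComplexShape.up ℤ)).X n)
    (hx : ∀ q, b ≤ q → q ≤ n - a → x ≫ proj K n q = 0) : x = 0 := by
  have h : 𝟙 ((K.total (ComplexShape.up ℤ)).X n) = ∑ q ∈ Finset.Icc b (n - a),
      proj K n q ≫ K.ιTotal (ComplexShape.up ℤ) (n - q) q n (by simp) := by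
    refine HomologicalComplex₂.total.hom_ext _ fun p q h => ?_
    change p + q = n at h
    by_cases hz : p < a ∨ q < b
    · exact (hK p q hz).eq_of_src _ _
    · rw [not_or, not_lt, not_lt] at hz
      rw [Category.comp_id, Preadditive.comp_sum, Finset.sum_eq_single q]
      · obtain rfl : p = n - q := by omega
        rw [← Category.assoc, ι_proj_self, Category.id_comp]
      · intro q' _ hq'
        rw [← Category.assoc, ι_proj_ne K _ (Ne.symm hq'), zero_comp]
      · intro hq
        exact absurd (Finset.mem_Icc.2 ⟨by omega, by omega⟩) hq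
  rw [← Category.comp_id x, h, Preadditive.comp_sum]
  refine Finset.sum_eq_zero fun q hq => ?_
  obtain ⟨h1, h2⟩ := Finset.mem_Icc.1 hq
  rw [← Category.assoc, hx q h1 h2, zero_comp]

end Total

section Map

variable {K L : HomologicalComplex₂ A (ComplexShape.up ℤ) (ComplexShape.up ℤ)}
  [K.HasTotal (ComplexShape.up ℤ)] [L.HasTotal (ComplexShape.up ℤ)] (φ : K ⟶ L)

lemma map_proj (n q : ℤ) :
    (HomologicalComplex₂.total.map φ (ComplexShape.up ℤ)).f n ≫ proj L n q =
      proj K n q ≫ (φ.f (n - q)).f q := by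
  refine HomologicalComplex₂.total.hom_ext _ fun p q' h => ?_
  change p + q' = n at h
  rw [HomologicalComplex₂.ιTotal_map_assoc]
  by_cases hq : q' = q
  · subst hq
    obtain rfl : p = n - q' := by omega
    rw [ι_proj_self, ← Category.assoc, ι_proj_self, Category.comp_id, Category.id_comp]
  · rw [ι_proj_ne L _ hq, comp_zero, ← Category.assoc, ι_proj_ne K _ hq, zero_comp]

theorem quasiIso_map (a b : ℤ)
    (hK : ∀ p q : ℤ, p < a ∨ q < b → IsZero ((K.X p).X q))
    (hL : ∀ p q : ℤ, p < a ∨ q < b → IsZero ((L.X p).X q)) [QuasiIso φ] :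
    QuasiIso (HomologicalComplex₂.total.map φ (ComplexShape.up ℤ)) := by
  refine quasiIso_of_chase _ fun i j k hij hjk T x y hx hxy => ?_
  let F := HomologicalComplex₂.total.map φ (ComplexShape.up ℤ)
  let TK := K.total (ComplexShape.up ℤ)
  let TL := L.total (ComplexShape.up ℤ)
  have key : ∀ m : ℕ, ∃ (T' : A) (π : T' ⟶ T) (_ : Epi π) (z : T' ⟶ TK.X j) (w : T' ⟶ TL.X i),
      ∀ q, q < b + m → (π ≫ x + z ≫ TK.d j k) ≫ proj K k q = 0 ∧
        (π ≫ y - z ≫ F.f j - w ≫ TL.d i j) ≫ proj L j q = 0 := by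
    intro m
    induction m with
    | zero =>
      exact ⟨T, 𝟙 T, inferInstance, 0, 0, fun q hq =>
        ⟨(hK _ _ (Or.inr (by omega))).eq_of_tgt _ _,
          (hL _ _ (Or.inr (by omega))).eq_of_tgt _ _⟩⟩
    | succ m ih =>
      obtain ⟨T', π, _, z, w, hzw⟩ := ih
      obtain ⟨q, hq⟩ : ∃ q : ℤ, q = b + m := ⟨_, rfl⟩
      rw [← hq] at hzw
      set x' := π ≫ x + z ≫ TK.d j k with hx'
      set y' := π ≫ y - z ≫ F.f j - w ≫ TL.d i j with hy'
      have hcyc : x' ≫ TK.d k (k + 1) = 0 := by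
        rw [hx', Preadditive.add_comp, Category.assoc, hx, comp_zero, Category.assoc,
          HomologicalComplex.d_comp_d, comp_zero, add_zero]
      have hpair : x' ≫ F.f k + y' ≫ TL.d j k = 0 := by
        rw [hx', hy']
        simp only [Preadditive.add_comp, Preadditive.sub_comp, Category.assoc,
          HomologicalComplex.d_comp_d, comp_zero, sub_zero]
        rw [F.comm]
        rw [show π ≫ x ≫ F.f k + z ≫ TK.d j k ≫ F.f k +
            (π ≫ y ≫ TL.d j k - z ≫ TK.d j k ≫ F.f k) =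
            π ≫ (x ≫ F.f k + y ≫ TL.d j k) by rw [Preadditive.comp_add]; abel,
          hxy, comp_zero]
      let col := ((HomologicalComplex.eval A (ComplexShape.up ℤ) q).mapHomologicalComplex
        (ComplexShape.up ℤ)).map φ
      have : QuasiIso col := inferInstance
      have h1 : ∀ l, (x' ≫ proj K k q) ≫ (K.d (k - q) l).f q = 0 := fun l => by
        by_cases hl : k - q + 1 = l
        · obtain rfl : l = k + 1 - q := by omega
          rw [← comp_d_proj K rfl x' (hzw (q - 1) (by omega)).1, ← Category.assoc, hcyc,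
            zero_comp]
        · rw [K.shape_f _ _ (by simpa using hl), comp_zero]
      have h2 : (x' ≫ proj K k q) ≫ (φ.f (k - q)).f q +
          (y' ≫ proj L j q) ≫ (L.d (j - q) (k - q)).f q = 0 := by
        rw [← comp_d_proj L hjk y' (hzw (q - 1) (by omega)).2, Category.assoc]
        rw [← map_proj, ← Category.assoc, ← Category.assoc, ← Preadditive.add_comp, hpair,
          zero_comp]
      obtain ⟨T'', π', _, z₀, w₀, e₁, e₂⟩ : ∃ (T'' : A) (π' : T'' ⟶ T') (_ : Epi π')
          (z₀ : T'' ⟶ (K.X (j - q)).X q) (w₀ : T'' ⟶ (L.X (i - q)).X q),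
          π' ≫ x' ≫ proj K k q = -(z₀ ≫ (K.d (j - q) (k - q)).f q) ∧
          π' ≫ y' ≫ proj L j q =
            z₀ ≫ (φ.f (j - q)).f q + w₀ ≫ (L.d (i - q) (j - q)).f q :=
        exists_chase col (i := i - q) (j := j - q)
          (k := k - q) (by omega) (by omega) (x' ≫ proj K k q) (y' ≫ proj L j q) h1 h2
      let z₁ : T'' ⟶ TK.X j := z₀ ≫ K.ιTotal (ComplexShape.up ℤ) (j - q) q j (by simp)
      let w₁ : T'' ⟶ TL.X i := w₀ ≫ L.ιTotal (ComplexShape.up ℤ) (i - q) q i (by simp)
      have hz₁ : z₁ ≫ proj K j q = z₀ :=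
        (Category.assoc _ _ _).trans ((congrArg (z₀ ≫ ·) (ι_proj_self K j q _)).trans (Category.comp_id _))
      have hw₁ : w₁ ≫ proj L i q = w₀ :=
        (Category.assoc _ _ _).trans ((congrArg (w₀ ≫ ·) (ι_proj_self L i q _)).trans (Category.comp_id _))
      have hz₁' : ∀ q', q' ≠ q → z₁ ≫ proj K j q' = 0 := fun q' h =>
        (Category.assoc _ _ _).trans
          ((congrArg (z₀ ≫ ·) (ι_proj_ne K _ (Ne.symm h))).trans comp_zero)
      have hw₁' : ∀ q', q' ≠ q → w₁ ≫ proj L i q' = 0 := fun q' h =>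
        (Category.assoc _ _ _).trans
          ((congrArg (w₀ ≫ ·) (ι_proj_ne L _ (Ne.symm h))).trans comp_zero)
      refine ⟨T'', π' ≫ π, epi_comp _ _, π' ≫ z + z₁, π' ≫ w + w₁, fun q' hq' => ?_⟩
      have ex : (π' ≫ π) ≫ x + (π' ≫ z + z₁) ≫ TK.d j k = π' ≫ x' + z₁ ≫ TK.d j k := by
        simp only [hx', Preadditive.comp_add, Preadditive.add_comp, Category.assoc]
        abel
      have ey : (π' ≫ π) ≫ y - (π' ≫ z + z₁) ≫ F.f j - (π' ≫ w + w₁) ≫ TL.d i j =
          π' ≫ y' - z₁ ≫ F.f j - w₁ ≫ TL.d i j := by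
        simp only [hy', Preadditive.comp_sub, Preadditive.add_comp, Category.assoc]
        abel
      rw [ex, ey]
      have hp1 : q' - 1 ≠ q := by omega
      rw [Preadditive.add_comp, Category.assoc, Category.assoc,
        comp_d_proj K hjk z₁ (hz₁' _ hp1), Preadditive.sub_comp, Preadditive.sub_comp,
        Category.assoc, Category.assoc z₁, Category.assoc w₁, map_proj, ← Category.assoc z₁,
        comp_d_proj L hij w₁ (hw₁' _ hp1)]
      by_cases h : q' = q
      · subst h
        refine ⟨?_, ?_⟩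
        · simp [hz₁, e₁]
        · simp only [Category.assoc, reassoc_of% hz₁, hw₁, e₂]
          abel
      · obtain ⟨hx0, hy0⟩ := hzw q' (by omega)
        simp [hz₁' _ h, reassoc_of% (hz₁' _ h), hw₁' _ h, hx0, hy0]
  obtain ⟨T', π, hπ, z, w, h⟩ := key ((k - a - b).toNat + 1)
  refine ⟨T', π, hπ, z, w, ?_, ?_⟩
  · rw [eq_neg_iff_add_eq_zero]
    exact eq_zero_of_proj K hK _ fun q h1 h2 => (h q (by omega)).1
  · rw [← sub_eq_zero, ← sub_sub]
    exact eq_zero_of_proj L hL _ fun q h1 h2 => (h q (by omega)).2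

end Map

end Groth.Agent.Lib.TotalQIso.Basic
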